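import Mathlib

/-!
# Basic elements (Eisenbud–Evans) in free modules, following the height filtration of `Spec R`
-/

set_option autoImplicit false
universe u

namespace GrothLib.SerreBass

open scoped Classical

variable {R : Type u} [CommRing R] {N : ℕ}

/-- evaluation of a vector in the residue field at `p` -/
noncomputable def ev (p : PrimeSpectrum R) :
    (Fin N → R) →ₗ[R] (Fin N → p.asIdeal.ResidueField) :=
  (Algebra.linearMap R p.asIdeal.ResidueField).compLeft (Fin N)

theorem ev_apply (p : PrimeSpectrum R) (v : Fin N → R) (j : Fin N) :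
    ev p v j = algebraMap R p.asIdeal.ResidueField (v j) := rfl

theorem ev_eq_zero (p : PrimeSpectrum R) (v : Fin N → R) : ev p v = 0 ↔ ∀ j, v j ∈ p.asIdeal := by
  simp [funext_iff, ev_apply]

theorem ev_smul (p : PrimeSpectrum R) (r : R) (v : Fin N → R) :
    ev p (r • v) = algebraMap R p.asIdeal.ResidueField r • ev p v := by
  rw [map_smul, algebraMap_smul]

/-- dimension of the span of the images at `p` -/
noncomputable def rk (p : PrimeSpectrum R) {u : ℕ} (v : Fin u → Fin N → R) : ℕ :=
  Module.finrank p.asIdeal.ResidueField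
    (Submodule.span p.asIdeal.ResidueField (Set.range (ev p ∘ v)))

theorem le_rk_of_li {p : PrimeSpectrum R} {u r : ℕ} {v : Fin u → Fin N → R} (s : Fin r → Fin u)
    (h : LinearIndependent p.asIdeal.ResidueField (ev p ∘ v ∘ s)) : r ≤ rk p v := by
  have := finrank_span_eq_card h
  rw [Fintype.card_fin] at this
  refine this.symm.le.trans (Submodule.finrank_mono (Submodule.span_mono ?_))
  rintro _ ⟨i, rfl⟩
  exact ⟨s i, rfl⟩

theorem exists_li {p : PrimeSpectrum R} {u r : ℕ} {v : Fin u → Fin N → R} (h : r ≤ rk p v) :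
    ∃ s : Fin r → Fin u, LinearIndependent p.asIdeal.ResidueField (ev p ∘ v ∘ s) := by
  obtain ⟨κ, a, ha, hspan, hli⟩ := exists_linearIndependent' p.asIdeal.ResidueField (ev p ∘ v)
  have := Fintype.ofInjective a ha
  have hc : rk p v = Fintype.card κ := by
    rw [rk, ← hspan]
    exact finrank_span_eq_card hli
  obtain ⟨e⟩ := (Function.Embedding.nonempty_of_card_le (α := Fin r) (β := κ) (by simp; omega))
  exact ⟨a ∘ e, hli.comp e e.injective⟩

theorem exists_det {p : PrimeSpectrum R} {m : ℕ} {w : Fin m → Fin N → R}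
    (h : LinearIndependent p.asIdeal.ResidueField (ev p ∘ w)) :
    ∃ L : Matrix (Fin m) (Fin N) R, (L * Matrix.of fun j i => w i j).det ∉ p.asIdeal := by
  set K := p.asIdeal.ResidueField
  let M : Matrix (Fin N) (Fin m) R := Matrix.of fun j i => w i j
  have hinj : Function.Injective (Matrix.mulVecLin (M.map (algebraMap R K))) := by
    rw [← LinearMap.ker_eq_bot, LinearMap.ker_eq_bot']
    intro g hg
    refine funext (Fintype.linearIndependent_iff.1 h g ?_)
    funext j
    have := congrFun hg j
    simp [Matrix.mulVec, dotProduct, M] at this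
    simpa [ev_apply, mul_comm] using this
  obtain ⟨g, hg⟩ := LinearMap.exists_leftInverse_of_injective _ (LinearMap.ker_eq_bot.2 hinj)
  let G : Matrix (Fin m) (Fin N) K := LinearMap.toMatrix' g
  have hGM : G * M.map (algebraMap R K) = 1 := by
    have := congrArg LinearMap.toMatrix' hg
    rwa [LinearMap.toMatrix'_comp, LinearMap.toMatrix'_id, ← Matrix.toLin'_apply',
      LinearMap.toMatrix'_toLin'] at this
  obtain ⟨c, hc⟩ := IsLocalization.exist_integer_multiples_of_finite (nonZeroDivisors (R ⧸ p.asIdeal))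
    (fun x : Fin m × Fin N => G x.1 x.2)
  choose l hl using fun x => hc x
  choose L hL using fun x => Ideal.Quotient.mk_surjective (l x)
  refine ⟨Matrix.of fun i j => L (i, j), fun hmem => ?_⟩
  set cK := algebraMap (R ⧸ p.asIdeal) K c
  have hLK : (Matrix.of fun i j => L (i, j)).map (algebraMap R K) = cK • G := by
    ext i j
    have := hl (i, j)
    rw [← hL (i, j), Algebra.smul_def] at this
    rw [Matrix.map_apply, Matrix.of_apply, Matrix.smul_apply, smul_eq_mul]
    exact this
  rw [← Ideal.algebraMap_residueField_eq_zero, RingHom.map_det, RingHom.mapMatrix_apply,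
    Matrix.map_mul, hLK, Matrix.smul_mul, hGM, Matrix.det_smul, Matrix.det_one, mul_one,
    pow_eq_zero_iff'] at hmem
  have : (c : R ⧸ p.asIdeal) = 0 :=
    (IsFractionRing.injective (R ⧸ p.asIdeal) K) (by rw [map_zero]; exact hmem.1)
  exact nonZeroDivisors.ne_zero c.2 this

theorem li_of_det {q : PrimeSpectrum R} {m : ℕ} {w : Fin m → Fin N → R} (L : Matrix (Fin m) (Fin N) R)
    (h : (L * Matrix.of fun j i => w i j).det ∉ q.asIdeal) :
    LinearIndependent q.asIdeal.ResidueField (ev q ∘ w) := by
  set K := q.asIdeal.ResidueField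
  rw [Fintype.linearIndependent_iff]
  intro g hg
  have h0 : ((Matrix.of fun j i => w i j).map (algebraMap R K)).mulVec g = 0 := by
    rw [← hg]
    funext j
    simp [Matrix.mulVec, dotProduct, ev_apply, mul_comm, K]
  have hdet : ((L * Matrix.of fun j i => w i j).map (algebraMap R K)).det ≠ 0 := by
    rw [← RingHom.mapMatrix_apply, ← RingHom.map_det]
    exact fun e => h (Ideal.algebraMap_residueField_eq_zero.1 e)
  have := Matrix.eq_zero_of_mulVec_eq_zero hdet (v := g)
    (by rw [Matrix.map_mul, ← Matrix.mulVec_mulVec, h0, Matrix.mulVec_zero])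
  exact fun i => congrFun this i

theorem isClosed_rk_le {u : ℕ} (v : Fin u → Fin N → R) (r : ℕ) :
    IsClosed {p : PrimeSpectrum R | rk p v ≤ r} := by
  rw [← isOpen_compl_iff, isOpen_iff_forall_mem_open]
  intro p hp
  obtain ⟨s, hs⟩ := exists_li (r := r + 1) (v := v) (p := p) (by simp at hp; omega)
  obtain ⟨L, hL⟩ := exists_det (w := v ∘ s) hs
  refine ⟨PrimeSpectrum.basicOpen (L * Matrix.of fun j i => (v ∘ s) i j).det, fun q hq => ?_,
    PrimeSpectrum.isOpen_basicOpen, hL⟩
  have := le_rk_of_li s (li_of_det (w := v ∘ s) (q := q) L hq)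
  simp; omega

variable [IsNoetherianRing R] (d : ℕ)

/-- the bound attached to a prime -/
noncomputable def bd (p : PrimeSpectrum R) : ℕ := d - p.asIdeal.height.toNat + 1

theorem bd_lt {d : ℕ} (hd : ringKrullDim R ≤ d) {q p : PrimeSpectrum R} (h : q < p) :
    bd d p < bd d q := by
  have h1 : q.asIdeal.height < p.asIdeal.height := Ideal.height_strict_mono_of_isPrime_of_isPrime h
  have h2 : p.asIdeal.height ≤ d := by
    exact_mod_cast (Ideal.height_le_ringKrullDim_of_ne_top p.isPrime.ne_top).trans hd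
  obtain ⟨a, ha⟩ := ENat.ne_top_iff_exists.1 (h1.ne_top)
  obtain ⟨b, hb⟩ := ENat.ne_top_iff_exists.1 (lt_of_le_of_lt h2 (ENat.coe_lt_top d)).ne
  simp only [bd, ← ha, ← hb, ENat.toNat_coe, Nat.cast_lt, Nat.cast_le] at h1 h2 ⊢
  omega

/-- basic families of vectors -/
def Basic {u : ℕ} (v : Fin u → Fin N → R) : Prop := ∀ p : PrimeSpectrum R, min u (bd d p) ≤ rk p v

theorem finite_tight {d : ℕ} (hd : ringKrullDim R ≤ d) {u : ℕ} {v : Fin u → Fin N → R}
    (hv : Basic d v) : {p : PrimeSpectrum R | rk p v < u ∧ rk p v = bd d p}.Finite := by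
  have : {p : PrimeSpectrum R | rk p v < u ∧ rk p v = bd d p} ⊆ ⋃ r ∈ Finset.range u,
      PrimeSpectrum.asIdeal ⁻¹' (PrimeSpectrum.vanishingIdeal
        {p : PrimeSpectrum R | rk p v ≤ r}).minimalPrimes := by
    rintro p ⟨hu, hb⟩
    simp only [Set.mem_iUnion, Set.mem_preimage, Finset.mem_range, exists_prop]
    refine ⟨_, hu, ?_⟩
    set T := {q : PrimeSpectrum R | rk q v ≤ rk p v}
    have hT : ∀ q : PrimeSpectrum R, PrimeSpectrum.vanishingIdeal T ≤ q.asIdeal ↔ q ∈ T := by
      intro q
      rw [← SetLike.coe_subset_coe, ← PrimeSpectrum.mem_zeroLocus,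
        PrimeSpectrum.zeroLocus_vanishingIdeal_eq_closure, (isClosed_rk_le v _).closure_eq]
    refine ⟨⟨p.isPrime, (hT p).2 (show rk p v ≤ rk p v from le_rfl)⟩, fun J hJ hle => ?_⟩
    by_contra hne
    have hlt : (⟨J, hJ.1⟩ : PrimeSpectrum R) < p := lt_of_le_not_ge hle hne
    have h1 : rk ⟨J, hJ.1⟩ v ≤ rk p v := (hT ⟨J, hJ.1⟩).1 hJ.2
    have h2 := hv ⟨J, hJ.1⟩
    have h3 := bd_lt hd hlt
    omega
  refine Set.Finite.subset (Set.Finite.biUnion (Finset.range u).finite_toSet fun r _ => ?_) this
  exact (Ideal.finite_minimalPrimes_of_isNoetherianRing R _).preimage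
    (fun _ _ _ _ h => PrimeSpectrum.ext h)

/-- the shifted family -/
def shift {u : ℕ} (v : Fin (u + 2) → Fin N → R) (c : Fin (u + 1) → R) : Fin (u + 1) → Fin N → R :=
  fun i => v i.castSucc + c i • v (Fin.last _)

theorem rk_le_shift {u : ℕ} (v : Fin (u + 2) → Fin N → R) (c : Fin (u + 1) → R) (p : PrimeSpectrum R) :
    rk p v ≤ rk p (shift v c) + 1 := by
  set K := p.asIdeal.ResidueField
  have hle : Submodule.span K (Set.range (ev p ∘ v)) ≤
      Submodule.span K (Set.range (ev p ∘ shift v c)) ⊔ Submodule.span K {ev p (v (Fin.last _))} := by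
    rw [Submodule.span_le]
    rintro _ ⟨i, rfl⟩
    induction i using Fin.lastCases with
    | last => exact Submodule.mem_sup_right (Submodule.mem_span_singleton_self _)
    | cast i =>
      have : (ev p ∘ v) i.castSucc =
          (ev p ∘ shift v c) i - algebraMap R K (c i) • ev p (v (Fin.last _)) := by
        simp [shift, ev_smul]
      rw [SetLike.mem_coe, this]
      exact sub_mem (Submodule.mem_sup_left (Submodule.subset_span ⟨i, rfl⟩))
        (Submodule.mem_sup_right (Submodule.smul_mem _ _ (Submodule.mem_span_singleton_self _)))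
  refine (Submodule.finrank_mono hle).trans ((Submodule.finrank_add_le_finrank_add_finrank _ _).trans ?_)
  exact Nat.add_le_add_left ((finrank_span_le_card _).trans (by simp)) _

theorem rk_le_shift_of_last_mem {u : ℕ} (v : Fin (u + 2) → Fin N → R) (c : Fin (u + 1) → R)
    (p : PrimeSpectrum R)
    (h : ev p (v (Fin.last _)) ∈ Submodule.span p.asIdeal.ResidueField (Set.range (ev p ∘ shift v c))) :
    rk p v ≤ rk p (shift v c) := by
  refine Submodule.finrank_mono (Submodule.span_le.2 ?_)
  rintro _ ⟨i, rfl⟩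
  induction i using Fin.lastCases with
  | last => exact h
  | cast i =>
    have : (ev p ∘ v) i.castSucc =
        (ev p ∘ shift v c) i - algebraMap R p.asIdeal.ResidueField (c i) • ev p (v (Fin.last _)) := by
      simp [shift, ev_smul]
    rw [SetLike.mem_coe, this]
    exact sub_mem (Submodule.subset_span ⟨i, rfl⟩) (Submodule.smul_mem _ _ h)

theorem ev_shift_congr {u : ℕ} (v : Fin (u + 2) → Fin N → R) (c c' : Fin (u + 1) → R)
    (p : PrimeSpectrum R) (h : ∀ i, c' i - c i ∈ p.asIdeal) :
    ev p ∘ shift v c' = ev p ∘ shift v c := by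
  funext i
  simp only [Function.comp, shift, map_add, ev_smul]
  congr 2
  rw [← sub_eq_zero, ← map_sub]
  exact Ideal.algebraMap_residueField_eq_zero.2 (h i)

/-- one step at a single prime -/
theorem exists_adjust {u : ℕ} (a : R) (v : Fin (u + 2) → Fin N → R) (c : Fin (u + 1) → R)
    (p : PrimeSpectrum R) (hc : c 0 ∈ Ideal.span {a}) (ha : a ∈ p.asIdeal → ev p (v 0) ≠ 0)
    (hr : rk p v < u + 2) (s : R) (hs : s ∉ p.asIdeal) :
    ∃ c' : Fin (u + 1) → R, c' 0 ∈ Ideal.span {a} ∧ (∀ i, c' i - c i ∈ Ideal.span {s}) ∧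
      rk p v ≤ rk p (shift v c') := by
  set K := p.asIdeal.ResidueField
  set L := ev p (v (Fin.last _))
  set w := ev p ∘ shift v c with hw
  by_cases hL : L ∈ Submodule.span K (Set.range w)
  · exact ⟨c, hc, fun i => by simp, rk_le_shift_of_last_mem v c p hL⟩
  have hwlt : rk p (shift v c) < rk p v := by
    refine Submodule.finrank_lt_finrank_of_lt (lt_of_le_of_ne (Submodule.span_le.2 ?_) fun e => hL ?_)
    · rintro _ ⟨i, rfl⟩
      show ev p (v i.castSucc + c i • v (Fin.last _)) ∈ _
      rw [map_add, ev_smul]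
      exact add_mem (Submodule.subset_span ⟨i.castSucc, rfl⟩)
        (Submodule.smul_mem _ _ (Submodule.subset_span ⟨Fin.last _, rfl⟩))
    · rw [hw, e]; exact Submodule.subset_span ⟨Fin.last _, rfl⟩
  have hdep : ¬ LinearIndependent K w := by
    rw [linearIndependent_iff_card_le_finrank_span, Fintype.card_fin]
    show ¬ (u + 1 ≤ rk p (shift v c))
    omega
  obtain ⟨g, hg, i₁, hi₁⟩ := Fintype.not_linearIndependent_iff.1 hdep
  -- pick an index that can be modified
  obtain ⟨i, hgi, hia⟩ : ∃ i, g i ≠ 0 ∧ (i = 0 → a ∉ p.asIdeal) := by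
    by_contra! hno
    have h0 : ∀ i, i ≠ 0 → g i = 0 := fun i hi => by
      by_contra hgi
      exact hi (hno i hgi).1
    have hi0 : g 0 ≠ 0 := by
      rcases eq_or_ne i₁ 0 with rfl | hi
      · exact hi₁
      · exact absurd (h0 i₁ hi) hi₁
    have hap := (hno 0 hi0).2
    rw [Finset.sum_eq_single 0 (fun i _ hi => by rw [h0 i hi, zero_smul]) (by simp),
      smul_eq_zero_iff_right hi0] at hg
    refine ha hap ?_
    have hc0 : c 0 ∈ p.asIdeal := (Ideal.span_singleton_le_iff_mem _).2 hap hc
    rw [hw] at hg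
    simp only [Function.comp, shift, map_add, ev_smul, Fin.castSucc_zero] at hg
    rwa [Ideal.algebraMap_residueField_eq_zero.2 hc0, zero_smul, add_zero] at hg
  set t : R := if i = 0 then s * a else s
  have ht : t ∉ p.asIdeal := by
    simp only [t]
    split_ifs with h
    · exact fun hm => (p.isPrime.mem_or_mem hm).elim hs (hia h)
    · exact hs
  refine ⟨Function.update c i (c i + t), ?_, fun j => ?_, rk_le_shift_of_last_mem _ _ p ?_⟩
  · rcases eq_or_ne i 0 with rfl | hi
    · rw [Function.update_self]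
      simp only [t, if_true]
      exact add_mem hc (Ideal.mul_mem_left _ _ (Ideal.mem_span_singleton_self a))
    · rw [Function.update_of_ne (Ne.symm hi)]; exact hc
  · rcases eq_or_ne j i with rfl | hj
    · rw [Function.update_self, add_sub_cancel_left, Ideal.mem_span_singleton]
      simp only [t]
      split_ifs
      · exact dvd_mul_right s a
      · exact dvd_rfl
    · simp [Function.update_of_ne hj]
  · set w' := ev p ∘ shift v (Function.update c i (c i + t))
    have hw'j : ∀ j, j ≠ i → w' j = w j := fun j hj => by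
      simp [w', hw, shift, Function.update_of_ne hj]
    have hw'i : w' i = w i + algebraMap R K t • L := by
      simp [w', hw, shift, L, add_smul, map_add, ev_smul, add_assoc]
    set S := Submodule.span K (Set.range w')
    have hwi : w i ∈ S := by
      rw [← Finset.add_sum_erase _ _ (Finset.mem_univ i), add_eq_zero_iff_eq_neg] at hg
      rw [← inv_smul_smul₀ hgi (w i), hg]
      refine Submodule.smul_mem _ _ (neg_mem (Submodule.sum_mem _ fun j hj => Submodule.smul_mem _ _ ?_))
      rw [← hw'j j (by simpa using hj)]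
      exact Submodule.subset_span ⟨j, rfl⟩
    have htL : algebraMap R K t • L ∈ S := by
      have : w' i ∈ S := Submodule.subset_span ⟨i, rfl⟩
      rw [hw'i] at this
      simpa using sub_mem this hwi
    have hne : algebraMap R K t ≠ 0 := fun e => ht (Ideal.algebraMap_residueField_eq_zero.1 e)
    have := S.smul_mem (algebraMap R K t)⁻¹ htL
    rwa [smul_smul, inv_mul_cancel₀ hne, one_smul] at this

/-- simultaneous adjustment on a finite set of primes -/
theorem exists_shift_finset {u : ℕ} (a : R) (v : Fin (u + 2) → Fin N → R)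
    (T : Finset (PrimeSpectrum R)) (ha : ∀ p ∈ T, a ∈ p.asIdeal → ev p (v 0) ≠ 0)
    (hr : ∀ p ∈ T, rk p v < u + 2) :
    ∃ c : Fin (u + 1) → R, c 0 ∈ Ideal.span {a} ∧ ∀ p ∈ T, rk p v ≤ rk p (shift v c) := by
  induction T using Finset.strongInduction with
  | _ T ih =>
    rcases T.eq_empty_or_nonempty with rfl | hne
    · exact ⟨0, by simp, by simp⟩
    obtain ⟨p, hpT, hmin⟩ := T.exists_minimal hne
    obtain ⟨c, hc, hcT⟩ := ih (T.erase p) (Finset.erase_ssubset hpT)
      (fun q hq => ha q (Finset.mem_of_mem_erase hq)) (fun q hq => hr q (Finset.mem_of_mem_erase hq))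
    have hex : ∀ q ∈ T.erase p, ∃ x ∈ q.asIdeal, x ∉ p.asIdeal := fun q hq => by
      by_contra! hle
      obtain ⟨hqp, hqT⟩ := Finset.mem_erase.1 hq
      exact hqp (le_antisymm (α := PrimeSpectrum R) hle (hmin hqT hle))
    choose x hxq hxp using hex
    set s := ∏ q ∈ (T.erase p).attach, x q.1 q.2
    have hs : s ∉ p.asIdeal := fun h => by
      obtain ⟨q, -, hq⟩ := (Ideal.IsPrime.prod_mem_iff).1 h
      exact hxp _ _ hq
    obtain ⟨c', hc', hcc, hp'⟩ := exists_adjust a v c p hc (ha p hpT) (hr p hpT) s hs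
    refine ⟨c', hc', fun q hq => ?_⟩
    rcases eq_or_ne q p with rfl | hqp
    · exact hp'
    have hq' := Finset.mem_erase.2 ⟨hqp, hq⟩
    refine (hcT q hq').trans_eq ?_
    have hsq : s ∈ q.asIdeal := Ideal.prod_mem _ (i := ⟨q, hq'⟩) (Finset.mem_attach _ _) (hxq q hq')
    rw [rk, rk, ev_shift_congr v c c' q fun i => (Ideal.span_singleton_le_iff_mem _).2 hsq (hcc i)]

theorem main {d : ℕ} (hd : ringKrullDim R ≤ d) (a : R) : ∀ (u : ℕ) (v : Fin (u + 1) → Fin N → R),
    Basic d v → (∀ p : PrimeSpectrum R, a ∈ p.asIdeal → ev p (v 0) ≠ 0) →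
    ∃ z ∈ Submodule.span R (Set.range v), ∀ p : PrimeSpectrum R, ev p (v 0 + a • z) ≠ 0 := by
  intro u
  induction u with
  | zero =>
    intro v hv _
    refine ⟨0, zero_mem _, fun p => ?_⟩
    rw [smul_zero, add_zero]
    intro h0
    have h1 := hv p
    have : rk p v = 0 := by
      rw [rk, Submodule.finrank_eq_zero, Submodule.span_eq_bot]
      rintro _ ⟨i, rfl⟩
      obtain rfl : i = 0 := Fin.ext (by omega)
      exact h0
    simp [bd] at h1
    omega
  | succ u ih =>
    intro v hv ha
    set T := (finite_tight hd hv).toFinset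
    obtain ⟨c, hc, hcT⟩ := exists_shift_finset a v T (fun p _ => ha p)
      (fun p hp => ((finite_tight hd hv).mem_toFinset.1 hp).1)
    obtain ⟨b, hb⟩ := Ideal.mem_span_singleton.1 hc
    have H1 : Basic d (shift v c) := fun p => by
      have h1 := hv p
      have h2 := rk_le_shift v c p
      by_cases hp : p ∈ T
      · have := hcT p hp
        omega
      · rw [Set.Finite.mem_toFinset] at hp
        simp only [Set.mem_setOf_eq, not_and] at hp
        omega
    have H2 : ∀ p : PrimeSpectrum R, a ∈ p.asIdeal → ev p (shift v c 0) ≠ 0 := fun p hap => by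
      have hc0 : c 0 ∈ p.asIdeal := (Ideal.span_singleton_le_iff_mem _).2 hap hc
      simp only [shift, map_add, ev_smul, Ideal.algebraMap_residueField_eq_zero.2 hc0, zero_smul,
        add_zero, Fin.castSucc_zero]
      exact ha p hap
    obtain ⟨z, hz, hz'⟩ := ih (shift v c) H1 H2
    refine ⟨b • v (Fin.last _) + z,
      add_mem (Submodule.smul_mem _ _ (Submodule.subset_span ⟨_, rfl⟩))
        (Submodule.span_le.2 ?_ hz), fun p => ?_⟩
    · rintro _ ⟨i, rfl⟩
      exact add_mem (Submodule.subset_span ⟨_, rfl⟩)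
        (Submodule.smul_mem _ _ (Submodule.subset_span ⟨_, rfl⟩))
    · have h : v 0 + a • (b • v (Fin.last _) + z) = shift v c 0 + a • z := by
        simp only [shift, hb, smul_add, smul_smul, Fin.castSucc_zero, add_assoc]
      rw [h]
      exact hz' p

end GrothLib.SerreBass
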