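import Mathlib
import Groth.Agent.Lib.SerreBass.Basic

/-!
# Serre's splitting theorem and Bass cancellation over a noetherian ring of finite dimension
-/

set_option autoImplicit false
universe u

open scoped TensorProduct

namespace GrothLib.SerreBass

variable {R : Type u} [CommRing R] [IsNoetherianRing R] {d : ℕ}

theorem exists_unimodular_add (hd : ringKrullDim R ≤ d) (P : Type u) [AddCommGroup P] [Module R P]
    [Module.Finite R P] [Module.Projective R P]
    (hP : ∀ p : PrimeSpectrum R, d < Module.rankAtStalk (R := R) P p)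
    (x : P) (a : R) (hx : ∃ (φ : P →ₗ[R] R) (r : R), φ x + r * a = 1) :
    ∃ (q : P) (ψ : P →ₗ[R] R), ψ (x + a • q) = 1 := by
  classical
  obtain ⟨N, π, hπ⟩ := Module.Finite.exists_fin' R P
  obtain ⟨σ, hσ⟩ := Module.projective_lifting_property π LinearMap.id hπ
  have hπσ : ∀ y, π (σ y) = y := LinearMap.congr_fun hσ
  obtain ⟨φ, r, hφ⟩ := hx
  let e : Fin N → Fin N → R := fun j => σ (π (Pi.single j 1))
  have he : ∀ y, σ y ∈ Submodule.span R (Set.range e) := by
    intro y
    rw [← hπσ y]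
    generalize σ y = v
    rw [← (Pi.basisFun R (Fin N)).sum_repr v]
    rw [map_sum, map_sum]
    refine Submodule.sum_mem _ fun j _ => ?_
    rw [map_smul, map_smul, Pi.basisFun_apply]
    exact Submodule.smul_mem _ _ (Submodule.subset_span ⟨j, rfl⟩)
  let v : Fin (N + 1) → Fin N → R := Fin.cons (σ x) e
  have hrank : ∀ p : PrimeSpectrum R, d + 1 ≤ rk p v := by
    intro p
    let K := p.asIdeal.ResidueField
    let g : K ⊗[R] P →ₗ[K] (Fin N → K) :=
      (TensorProduct.piScalarRight R K K (Fin N)).toLinearMap ∘ₗ σ.baseChange K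
    have hg : ∀ y, g (1 ⊗ₜ y) = ev p (σ y) := by
      intro y
      funext j
      simp [g, ev_apply, Algebra.algebraMap_eq_smul_one]
    have hginj : Function.Injective g := by
      refine (TensorProduct.piScalarRight R K K (Fin N)).injective.comp ?_
      refine Function.LeftInverse.injective (g := π.baseChange K) fun z => ?_
      rw [← LinearMap.comp_apply, ← LinearMap.baseChange_comp, hσ, LinearMap.baseChange_id]; rfl
    have h1 : Module.rankAtStalk (R := R) P p = Module.finrank K (LinearMap.range g) := by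
      rw [LinearMap.finrank_range_of_inj hginj, Module.rankAtStalk_eq]
    have h2 : LinearMap.range g ≤ Submodule.span K (Set.range (ev p ∘ v)) := by
      rintro _ ⟨z, rfl⟩
      induction z using TensorProduct.induction_on with
      | zero => simp
      | tmul c y =>
        rw [show c ⊗ₜ[R] y = c • ((1 : K) ⊗ₜ[R] y) by rw [TensorProduct.smul_tmul', smul_eq_mul, mul_one],
          map_smul, hg]
        refine Submodule.smul_mem _ _ ?_
        have := Submodule.mem_map_of_mem (f := ev p) (he y)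
        rw [Submodule.map_span, ← Set.range_comp] at this
        refine Submodule.span_le_restrictScalars R K _ (Submodule.span_mono ?_ this)
        rintro _ ⟨j, rfl⟩
        exact ⟨j.succ, by simp [v]⟩
      | add z w hz hw => rw [map_add]; exact add_mem hz hw
    exact (hP p).trans_le (h1.le.trans (Submodule.finrank_mono h2))
  have hbasic : Basic d v := fun p => by
    have := hrank p
    have : bd d p ≤ d + 1 := by simp [bd]
    omega
  have ha0 : ∀ p : PrimeSpectrum R, a ∈ p.asIdeal → ev p (v 0) ≠ 0 := by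
    intro p hap h0
    refine p.isPrime.ne_top ((Ideal.eq_top_iff_one _).2 ?_)
    have hmem : ∀ j, σ x j ∈ p.asIdeal := (ev_eq_zero p _).1 (by simpa [v] using h0)
    rw [← hφ]
    refine add_mem ?_ (Ideal.mul_mem_left _ _ hap)
    rw [← hπσ x, ← (Pi.basisFun R (Fin N)).sum_repr (σ x), map_sum, map_sum]
    refine Ideal.sum_mem _ fun j _ => ?_
    rw [map_smul, map_smul, smul_eq_mul, Pi.basisFun_repr]
    exact Ideal.mul_mem_right _ _ (hmem j)
  obtain ⟨z, hz, hz'⟩ := main hd a N v hbasic ha0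
  set y := π (v 0 + a • z) with hy
  have hzσ : σ (π z) = z := by
    clear hz' hy y
    induction hz using Submodule.span_induction with
    | mem w hw =>
      obtain ⟨i, rfl⟩ := hw
      induction i using Fin.cases with
      | zero => simp [v, hπσ]
      | succ j => simp [v, e, hπσ]
    | zero => simp
    | add w w' _ _ h h' => rw [map_add, map_add, h, h']
    | smul c w _ h => rw [map_smul, map_smul, h]
  have hy' : y = x + a • π z := by simp [hy, v, hπσ]
  have hσy : σ y = v 0 + a • z := by simp [hy', v, hzσ]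
  obtain ⟨c, hc⟩ := (Submodule.mem_span_range_iff_exists_fun R).1
    (show (1 : R) ∈ Ideal.span (Set.range (v 0 + a • z)) by
      rw [(_ : Ideal.span _ = (⊤ : Ideal R))]
      · trivial
      by_contra htop
      obtain ⟨m, hm, hle⟩ := Ideal.exists_le_maximal _ htop
      exact hz' ⟨m, hm.isPrime⟩ ((ev_eq_zero _ _).2 fun j => hle (Ideal.subset_span ⟨j, rfl⟩)))
  refine ⟨π z, (∑ j, c j • LinearMap.proj j).comp σ, ?_⟩
  rw [← hy', LinearMap.comp_apply, hσy]
  simpa using hc

theorem exists_free_factor (hd : ringKrullDim R ≤ d) : ∀ (k : ℕ) (P : Type u) [AddCommGroup P]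
    [Module R P] [Module.Finite R P] [Module.Projective R P],
    (∀ p : PrimeSpectrum R, d + k ≤ Module.rankAtStalk (R := R) P p) →
    ∃ (M : Type u) (_ : AddCommGroup M) (_ : Module R M), Nonempty (P ≃ₗ[R] M × (Fin k → R)) := by
  intro k
  induction k with
  | zero => exact fun P _ _ _ _ _ => ⟨P, ‹_›, ‹_›, ⟨LinearEquiv.prodUnique.symm⟩⟩
  | succ k ih =>
    intro P _ _ _ _ hP
    obtain ⟨q, ψ, hψ⟩ := exists_unimodular_add hd P (fun p => by have := hP p; omega) 0 1
      ⟨0, 1, by simp⟩
    rw [one_smul, zero_add] at hψ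
    let K := LinearMap.ker ψ
    let pr : P →ₗ[R] K := (LinearMap.id - ψ.smulRight q).codRestrict K fun y => by simp [K, hψ]
    have hpr : ∀ y : K, pr y = y := fun y => by
      ext
      have : ψ (y : P) = 0 := y.2
      simp [pr, this]
    have hsurj : Function.Surjective pr := fun y => ⟨y, hpr y⟩
    have : Module.Finite R K := Module.Finite.of_surjective pr hsurj
    have : Module.Projective R K := Module.Projective.of_split K.subtype pr (LinearMap.ext hpr)
    let e : P ≃ₗ[R] K × R :=
      { pr.prod ψ with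
        invFun := fun y => (y.1 : P) + y.2 • q
        left_inv := fun y => by simp [pr]
        right_inv := fun y => by
          have : ψ (y.1 : P) = 0 := y.1.2
          ext <;> simp [pr, hψ, this] }
    obtain ⟨M, iM, jM, ⟨f⟩⟩ := ih K fun p => by
      have h1 := hP p
      have : Nontrivial R := ⟨⟨0, 1, fun h => p.isPrime.ne_top ((Ideal.eq_top_iff_one _).2 (h ▸ zero_mem _))⟩⟩
      rw [Module.rankAtStalk_eq_of_equiv e, Module.rankAtStalk_prod, Pi.add_apply, Module.rankAtStalk_self,
        Pi.one_apply] at h1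
      omega
    exact ⟨M, iM, jM, ⟨e ≪≫ₗ (f.prodCongr (LinearEquiv.refl R R)) ≪≫ₗ LinearEquiv.prodAssoc R M _ R ≪≫ₗ
      (LinearEquiv.refl R M).prodCongr ((LinearEquiv.prodComm R _ R) ≪≫ₗ
        Fin.consLinearEquiv R (fun _ : Fin (k + 1) => R))⟩⟩

theorem cancel_one (hd : ringKrullDim R ≤ d) {P P' : Type u} [AddCommGroup P] [Module R P]
    [AddCommGroup P'] [Module R P'] [Module.Finite R P'] [Module.Projective R P']
    (hP : ∀ p : PrimeSpectrum R, d < Module.rankAtStalk (R := R) P' p)
    (e : (P × R) ≃ₗ[R] (P' × R)) : Nonempty (P ≃ₗ[R] P') := by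
  set x := (e (0, 1)).1 with hx
  set a := (e (0, 1)).2 with ha
  let χ : P' × R →ₗ[R] R := LinearMap.snd R P R ∘ₗ e.symm.toLinearMap
  have hχ : χ (x, a) = 1 := by simp [χ, hx, ha]
  obtain ⟨q, ψ, hψ⟩ := exists_unimodular_add hd P' hP x a ⟨χ ∘ₗ LinearMap.inl R P' R, χ (0, 1), by
    have : ((x, a) : P' × R) = (x, 0) + a • (0, 1) := by simp
    rw [this, map_add, map_smul, smul_eq_mul, mul_comm] at hχ
    exact hχ⟩
  set x' := x + a • q
  let T1 : (P' × R) ≃ₗ[R] (P' × R) := LinearEquiv.ofLinearMap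
    ((LinearMap.fst R P' R + (LinearMap.snd R P' R).smulRight q).prod (LinearMap.snd R P' R))
    ((LinearMap.fst R P' R - (LinearMap.snd R P' R).smulRight q).prod (LinearMap.snd R P' R))
    (by ext y <;> simp) (by ext y <;> simp)
  let T2 : (P' × R) ≃ₗ[R] (P' × R) := LinearEquiv.ofLinearMap
    ((LinearMap.fst R P' R).prod (LinearMap.snd R P' R + (1 - a) • ψ ∘ₗ LinearMap.fst R P' R))
    ((LinearMap.fst R P' R).prod (LinearMap.snd R P' R - (1 - a) • ψ ∘ₗ LinearMap.fst R P' R))
    (by ext y <;> simp) (by ext y <;> simp)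
  let T3 : (P' × R) ≃ₗ[R] (P' × R) := LinearEquiv.ofLinearMap
    ((LinearMap.fst R P' R - (LinearMap.snd R P' R).smulRight x').prod (LinearMap.snd R P' R))
    ((LinearMap.fst R P' R + (LinearMap.snd R P' R).smulRight x').prod (LinearMap.snd R P' R))
    (by ext y <;> simp) (by ext y <;> simp)
  let Θ := e ≪≫ₗ T1 ≪≫ₗ T2 ≪≫ₗ T3
  have hΘ : Θ (0, 1) = (0, 1) := by
    show T3 (T2 (T1 (x, a))) = _
    simp [T1, T2, T3, x', hψ]
  have hΘ' : Θ.symm (0, 1) = (0, 1) := by rw [LinearEquiv.symm_apply_eq, hΘ]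
  let f : P →ₗ[R] P' := LinearMap.fst R P' R ∘ₗ Θ.toLinearMap ∘ₗ LinearMap.inl R P R
  let g : P' →ₗ[R] P := LinearMap.fst R P R ∘ₗ Θ.symm.toLinearMap ∘ₗ LinearMap.inl R P' R
  refine ⟨LinearEquiv.ofLinearMap f g ?_ ?_⟩
  all_goals
    ext y
  · have h : ((g y, (0 : R)) : P × R) = Θ.symm (y, 0) - (Θ.symm (y, 0)).2 • ((0 : P), (1 : R)) := by
      ext <;> simp [g]
    show (Θ ((g y, (0 : R)) : P × R)).1 = y
    rw [h, map_sub, map_smul, LinearEquiv.apply_symm_apply, hΘ]
    simp
  · have h : ((f y, (0 : R)) : P' × R) = Θ (y, 0) - (Θ (y, 0)).2 • ((0 : P'), (1 : R)) := by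
      ext <;> simp [f]
    show (Θ.symm ((f y, (0 : R)) : P' × R)).1 = y
    rw [h, map_sub, map_smul, LinearEquiv.symm_apply_apply, hΘ']
    simp

theorem cancel (hd : ringKrullDim R ≤ d) {P P' : Type u} [AddCommGroup P] [Module R P]
    [AddCommGroup P'] [Module R P'] [Module.Finite R P'] [Module.Projective R P']
    (hP : ∀ p : PrimeSpectrum R, d < Module.rankAtStalk (R := R) P' p) :
    ∀ (m : ℕ), ((P × (Fin m → R)) ≃ₗ[R] (P' × (Fin m → R))) → Nonempty (P ≃ₗ[R] P') := by
  intro m
  induction m with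
  | zero => exact fun e => ⟨LinearEquiv.prodUnique.symm ≪≫ₗ e ≪≫ₗ LinearEquiv.prodUnique⟩
  | succ m ih =>
    intro e
    let t : (Fin (m + 1) → R) ≃ₗ[R] (Fin m → R) × R :=
      (Fin.consLinearEquiv R (fun _ : Fin (m + 1) => R)).symm ≪≫ₗ LinearEquiv.prodComm R R _
    let e' := (LinearEquiv.prodAssoc R P _ R) ≪≫ₗ (LinearEquiv.refl R P).prodCongr t.symm ≪≫ₗ e ≪≫ₗ
      (LinearEquiv.refl R P').prodCongr t ≪≫ₗ (LinearEquiv.prodAssoc R P' _ R).symm
    obtain ⟨f⟩ := cancel_one hd (fun p => by
      rw [Module.rankAtStalk_prod, Pi.add_apply]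
      exact (hP p).trans_le (Nat.le_add_right _ _)) e'
    exact ih f

end GrothLib.SerreBass
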